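import Cfsg.Agent.EqLemmas
import Cfsg.Agent.Lib.Zsigmondy.Basic

/-!
The order of two modulo a prime and prime divisors of `2 ^ k ± 1` (owner: helper96).

* `ordTwo`, `ordTwo_dvd_iff`, `exists_prime_ordTwo`
* `ordTwo_mersenne`, `ordTwo_fermat`
* `exists_prime_three_mod_four`
-/

set_option autoImplicit false

namespace Cfsg.Agent.GraphCIT

/-- The order of two modulo `r`. -/
noncomputable def ordTwo (r : ℕ) : ℕ := orderOf ((2 : ℕ) : ZMod r)

theorem ordTwo_dvd_iff {r k : ℕ} : ordTwo r ∣ k ↔ r ∣ 2 ^ k - 1 := by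
  rw [ordTwo, orderOf_dvd_iff_pow_eq_one, ← ZMod.natCast_eq_zero_iff, Nat.cast_sub Nat.one_le_two_pow,
    sub_eq_zero, Nat.cast_pow, Nat.cast_one]

theorem two_pow_two_mul_sub_one (n : ℕ) : 2 ^ (2 * n) - 1 = (2 ^ n + 1) * (2 ^ n - 1) := by
  rw [mul_comm 2 n, pow_mul]
  simpa using Nat.sq_sub_sq (2 ^ n) 1

theorem ordTwo_dvd_two_mul {r n : ℕ} (hd : r ∣ 2 ^ n + 1) : ordTwo r ∣ 2 * n :=
  ordTwo_dvd_iff.2 (two_pow_two_mul_sub_one n ▸ hd.mul_right _)

theorem not_two_dvd_two_pow_sub_one {n : ℕ} (hn : 0 < n) : ¬ 2 ∣ 2 ^ n - 1 := by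
  intro h
  have : 2 ∣ 2 ^ n := dvd_pow_self 2 hn.ne'
  have := Nat.one_le_two_pow (n := n)
  omega

theorem not_two_dvd_two_pow_add_one {n : ℕ} (hn : 0 < n) : ¬ 2 ∣ 2 ^ n + 1 := by
  intro h
  have : 2 ∣ 2 ^ n := dvd_pow_self 2 hn.ne'
  omega

theorem exists_prime_ordTwo {n : ℕ} (hn : 1 < n) (h6 : n ≠ 6) :
    ∃ r : ℕ, r.Prime ∧ r ≠ 2 ∧ r ∣ 2 ^ n - 1 ∧ ordTwo r = n := by
  obtain ⟨r, hr, hd, hmin⟩ := Zsigmondy.exists_primitive (a := 2) one_lt_two hn (fun h => h6 h.2) (by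
    rintro ⟨-, k, hk⟩
    rcases k with _ | _ | k
    · norm_num at hk
    · norm_num at hk
    · rw [pow_succ, pow_succ] at hk; omega)
  have hr2 : r ≠ 2 := fun e => not_two_dvd_two_pow_sub_one (by omega : 0 < n) (e ▸ hd)
  have hdv := ordTwo_dvd_iff.2 hd
  have hpos := Nat.pos_of_dvd_of_pos hdv (by omega)
  refine ⟨r, hr, hr2, hd, (Nat.le_of_dvd (by omega) hdv).eq_of_not_lt fun hlt => ?_⟩
  exact hmin _ hpos hlt (ordTwo_dvd_iff.1 dvd_rfl)

theorem one_lt_ordTwo {r : ℕ} (hr : r.Prime) (h : ordTwo r ∣ 1) : False := by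
  have := ordTwo_dvd_iff.1 h
  norm_num at this
  exact hr.ne_one this

theorem ordTwo_three : ordTwo 3 = 2 := by
  have h : ordTwo 3 ∣ 2 := ordTwo_dvd_iff.2 (by norm_num)
  rcases (Nat.dvd_prime Nat.prime_two).1 h with h1 | h1
  · exact absurd (h1 ▸ dvd_rfl) (fun h => one_lt_ordTwo Nat.prime_three h)
  · exact h1

/-- Odd primes dividing the order of a prime-field group at a Mersenne prime. -/
theorem ordTwo_mersenne {p n r : ℕ} (hp : p.Prime) (hpn : p + 1 = 2 ^ n) (hr : r.Prime) (hr2 : r ≠ 2)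
    (hd : r ∣ p ∨ r ∣ p - 1 ∨ r ∣ p + 1) : r = p ∨ ordTwo r ∣ n - 1 := by
  rcases hd with hd | hd | hd
  · exact Or.inl ((Nat.prime_dvd_prime_iff_eq hr hp).1 hd)
  · rcases n with _ | n
    · simp only [pow_zero] at hpn; have := hp.two_le; omega
    · right
      rw [Nat.add_sub_cancel, ordTwo_dvd_iff]
      rw [pow_succ] at hpn
      have e : p - 1 = 2 * (2 ^ n - 1) := by omega
      rw [e] at hd
      exact (hr.dvd_mul.1 hd).resolve_left fun h => hr2 ((Nat.prime_dvd_prime_iff_eq hr Nat.prime_two).1 h)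
  · exact absurd ((Nat.prime_dvd_prime_iff_eq hr Nat.prime_two).1 (hr.dvd_of_dvd_pow (hpn ▸ hd))) hr2

theorem ordTwo_mersenne_self {p n : ℕ} (hp : p.Prime) (hpn : p + 1 = 2 ^ n) : ordTwo p = n := by
  have hn : n.Prime := Nat.prime_of_pow_sub_one_prime (a := 2) (by
    rintro rfl; simp only [pow_one] at hpn; have := hp.two_le; omega) (by rw [← hpn]; simpa using hp) |>.2
  have h : ordTwo p ∣ n := ordTwo_dvd_iff.2 (by rw [← hpn]; simp)
  rcases (Nat.dvd_prime hn).1 h with h1 | h1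
  · exact absurd (h1 ▸ dvd_rfl) (fun h => one_lt_ordTwo hp h)
  · exact h1

/-- Odd primes dividing the order of a prime-field group at a Fermat prime. -/
theorem ordTwo_fermat {p n r : ℕ} (hn : 0 < n) (hp : p.Prime) (hpn : p = 2 ^ n + 1) (hr : r.Prime) (hr2 : r ≠ 2)
    (hd : r ∣ p ∨ r ∣ p - 1 ∨ r ∣ p + 1) : r = p ∨ (2 ≤ n ∧ ordTwo r ∣ 2 * (n - 1)) := by
  rcases hd with hd | hd | hd
  · exact Or.inl ((Nat.prime_dvd_prime_iff_eq hr hp).1 hd)
  · rw [hpn, Nat.add_sub_cancel] at hd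
    exact absurd ((Nat.prime_dvd_prime_iff_eq hr Nat.prime_two).1 (hr.dvd_of_dvd_pow hd)) hr2
  · rcases n with _ | _ | n
    · omega
    · subst hpn
      norm_num at hd
      exact absurd ((Nat.prime_dvd_prime_iff_eq hr Nat.prime_two).1 (hr.dvd_of_dvd_pow (m := 2) (n := 2)
        (by simpa using hd))) hr2
    · right
      refine ⟨by omega, ?_⟩
      rw [show n + 1 + 1 - 1 = n + 1 by omega]
      refine ordTwo_dvd_two_mul ?_
      have e : p + 1 = 2 * (2 ^ (n + 1) + 1) := by rw [hpn, pow_succ 2 (n + 1)]; ring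
      rw [e] at hd
      exact (hr.dvd_mul.1 hd).resolve_left fun h => hr2 ((Nat.prime_dvd_prime_iff_eq hr Nat.prime_two).1 h)

theorem ordTwo_fermat_self {p n : ℕ} (hn : 0 < n) (hp : p.Prime) (hpn : p = 2 ^ n + 1) :
    ordTwo p = 2 * n := by
  obtain ⟨j, rfl⟩ := Nat.pow_of_pow_add_prime (a := 2) one_lt_two hn.ne' (hpn ▸ hp)
  have h : ordTwo p ∣ 2 ^ (j + 1) := by rw [pow_succ']; exact ordTwo_dvd_two_mul (by rw [hpn])
  obtain ⟨i, hi, e⟩ := (Nat.dvd_prime_pow Nat.prime_two).1 h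
  rw [e, ← pow_succ']
  congr 1
  refine le_antisymm hi (not_lt.1 fun hlt => ?_)
  have h1 : p ∣ 2 ^ 2 ^ j - 1 := ordTwo_dvd_iff.1 (e ▸ pow_dvd_pow 2 (Nat.lt_succ_iff.1 hlt))
  have h2 := Nat.le_of_dvd (by have := Nat.one_lt_two_pow hn.ne'; omega) h1
  have h3 := Nat.one_le_two_pow (n := 2 ^ j)
  omega

theorem exists_prime_three_mod_four : ∀ n : ℕ, n % 4 = 3 → ∃ r : ℕ, r.Prime ∧ r ∣ n ∧ r % 4 = 3 := by
  intro n
  induction n using Nat.recOnMul with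
  | zero => intro h; simp at h
  | one => intro h; simp at h
  | prime p hp => exact fun h => ⟨p, hp, dvd_rfl, h⟩
  | mul a b iha ihb =>
    intro h
    have ha : a % 4 < 4 := Nat.mod_lt _ (by norm_num)
    have hb : b % 4 < 4 := Nat.mod_lt _ (by norm_num)
    rw [Nat.mul_mod] at h
    rcases (show a % 4 = 3 ∨ b % 4 = 3 by
      interval_cases hA : a % 4 <;> interval_cases hB : b % 4 <;> simp_all) with h3 | h3
    · obtain ⟨r, hr, hd, h4⟩ := iha h3
      exact ⟨r, hr, hd.mul_right _, h4⟩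
    · obtain ⟨r, hr, hd, h4⟩ := ihb h3
      exact ⟨r, hr, hd.mul_left _, h4⟩

end Cfsg.Agent.GraphCIT
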