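import Cfsg.Agent.EqLemmas
import Cfsg.Agent.Lib.GraphCIT.Arith
import Cfsg.Agent.Lib.PSL2.Torus
import Cfsg.Agent.Lib.PSL2.OddGraph

/-!
`PSL_2(2^m)`: prime graph facts and an inverted element (owner: helper96).
-/

set_option autoImplicit false

open Cfsg

namespace Cfsg.Agent.GraphCIT

/-- Subgroups of order `r` are conjugate to `⟨x⟩` and some involution inverts `x`. -/
def InvertedTorus (S : Type*) [Group S] (r : ℕ) : Prop :=
  ∃ x w : S, orderOf x = r ∧ orderOf w = 2 ∧ w * x * w⁻¹ = x⁻¹ ∧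
    ∀ y : S, orderOf y = r → ∃ s : S, Subgroup.zpowers (s * x * s⁻¹) = Subgroup.zpowers y

/-- All involutions are conjugate. -/
def OneInvClass (S : Type*) [Group S] : Prop :=
  (∃ t : S, orderOf t = 2) ∧ ∀ s t : S, orderOf s = 2 → orderOf t = 2 → IsConj s t

theorem InvertedTorus.map {S S' : Type*} [Group S] [Group S'] {r : ℕ} (h : InvertedTorus S r) (e : S ≃* S') :
    InvertedTorus S' r := by
  obtain ⟨x, w, hx, hw, hi, hc⟩ := h
  refine ⟨e x, e w, by rw [MulEquiv.orderOf_eq, hx], by rw [MulEquiv.orderOf_eq, hw],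
    by rw [← map_inv, ← map_mul, ← map_mul, hi, map_inv], fun y hy => ?_⟩
  obtain ⟨s, hs⟩ := hc (e.symm y) (by rw [MulEquiv.orderOf_eq, hy])
  refine ⟨e s, ?_⟩
  have := congrArg (Subgroup.map e.toMonoidHom) hs
  rwa [MonoidHom.map_zpowers, MonoidHom.map_zpowers, MulEquiv.coe_toMonoidHom, e.apply_symm_apply, map_mul,
    map_mul, map_inv] at this

theorem OneInvClass.map {S S' : Type*} [Group S] [Group S'] (h : OneInvClass S) (e : S ≃* S') :
    OneInvClass S' := by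
  obtain ⟨⟨t, ht⟩, hc⟩ := h
  refine ⟨⟨e t, by rw [MulEquiv.orderOf_eq, ht]⟩, fun a b ha hb => ?_⟩
  have := MonoidHom.map_isConj e.toMonoidHom
    (hc (e.symm a) (e.symm b) (by rw [MulEquiv.orderOf_eq, ha]) (by rw [MulEquiv.orderOf_eq, hb]))
  simpa using this

theorem exists_inv_of_dvd_card {S : Type*} [Group S] [Finite S] (h : 2 ∣ Nat.card S) : ∃ t : S, orderOf t = 2 := by
  haveI : Fact (Nat.Prime 2) := ⟨Nat.prime_two⟩
  exact exists_prime_orderOf_dvd_card' 2 h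

variable {F : Type*} [Field F] [Fintype F] {m : ℕ}

section
variable (hm : 0 < m) (hF : Fintype.card F = 2 ^ m)
include hm hF

theorem charP_two : CharP F 2 :=
  haveI : Fact (Nat.Prime 2) := ⟨Nat.prime_two⟩
  charP_of_card_eq_prime_pow hF

theorem card_pslEven : Nat.card (PSL2.PSL2 F) = 2 ^ m * (2 ^ (2 * m) - 1) := by
  have h := PSL2.card_psl_mul (F := F)
  rw [Nat.card_eq_fintype_card (α := F), hF] at h
  rw [(Nat.prime_two.coprime_iff_not_dvd).2 (not_two_dvd_two_pow_sub_one hm), one_mul] at h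
  rw [h, two_pow_two_mul_sub_one]

theorem dvd_card_pslEven {r : ℕ} (hr : r.Prime) (hr2 : r ≠ 2) :
    r ∣ Nat.card (PSL2.PSL2 F) ↔ ordTwo r ∣ 2 * m := by
  rw [card_pslEven hm hF, ordTwo_dvd_iff]
  exact ⟨fun h => (hr.dvd_mul.1 h).resolve_left fun h => hr2 ((Nat.prime_dvd_prime_iff_eq hr Nat.prime_two).1
    (hr.dvd_of_dvd_pow h)), fun h => h.mul_left _⟩

/-- An element of order not dividing two has order dividing `q - 1` or `q + 1`. -/
theorem orderOf_pslEven {x : PSL2.PSL2 F} (hx : ¬ orderOf x ∣ 2) :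
    orderOf x ∣ 2 ^ m - 1 ∨ orderOf x ∣ 2 ^ m + 1 := by
  haveI : Fact (Nat.Prime 2) := ⟨Nat.prime_two⟩
  haveI := charP_two hm hF
  obtain ⟨y, hxy, hy⟩ := PSL2.exists_torus_gen 2 hx
  rw [Nat.card_eq_fintype_card, hF, (Nat.prime_two.coprime_iff_not_dvd).2 (not_two_dvd_two_pow_sub_one hm),
    Nat.div_one, Nat.div_one] at hy
  rcases hy with hy | hy
  · exact Or.inl (hy ▸ orderOf_dvd_of_mem_zpowers hxy)
  · exact Or.inr (hy ▸ orderOf_dvd_of_mem_zpowers hxy)

theorem no_two_mul_pslEven {r : ℕ} (hr : r.Prime) (hr2 : r ≠ 2) (x : PSL2.PSL2 F) : orderOf x ≠ 2 * r := by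
  intro hx
  rcases orderOf_pslEven hm hF (x := x) (fun h => by
      rw [hx] at h
      have := Nat.le_of_dvd two_pos h
      have := hr.two_le; omega) with h | h
  · exact not_two_dvd_two_pow_sub_one hm ((dvd_mul_right 2 r).trans (hx ▸ h))
  · exact not_two_dvd_two_pow_add_one hm ((dvd_mul_right 2 r).trans (hx ▸ h))

theorem no_mul_pslEven {r s : ℕ} (hr : r.Prime) (hs : s.Prime) (hr2 : r ≠ 2) (hr1 : r ∣ 2 ^ m - 1)
    (hs1 : ¬ s ∣ 2 ^ m - 1) (x : PSL2.PSL2 F) : orderOf x ≠ r * s := by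
  intro hx
  rcases orderOf_pslEven hm hF (x := x) (fun h => by
      rw [hx] at h
      have := Nat.le_of_dvd two_pos h
      have := hr.two_le; have := hs.two_le; nlinarith) with h | h
  · exact hs1 ((dvd_mul_left s r).trans (hx ▸ h))
  · have h' := (dvd_mul_right r s).trans (hx ▸ h)
    have h2 := Nat.dvd_sub h' hr1
    have := Nat.one_le_two_pow (n := m)
    rw [show 2 ^ m + 1 - (2 ^ m - 1) = 2 by omega] at h2
    exact hr2 ((Nat.prime_dvd_prime_iff_eq hr Nat.prime_two).1 h2)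

theorem oneInvClass_pslEven : OneInvClass (PSL2.PSL2 F) := by
  haveI := charP_two hm hF
  exact ⟨exists_inv_of_dvd_card (card_pslEven hm hF ▸ (dvd_pow_self 2 hm.ne').mul_right _),
    fun s t hs ht => PSL2.isConj_involution_even hs ht⟩

theorem invertedTorus_pslEven {r : ℕ} (hr : r.Prime) (hr2 : r ≠ 2) (hd : r ∣ Nat.card (PSL2.PSL2 F)) :
    InvertedTorus (PSL2.PSL2 F) r := by
  haveI : Fact (Nat.Prime 2) := ⟨Nat.prime_two⟩
  haveI := Fact.mk hr
  haveI := charP_two hm hF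
  obtain ⟨x, hx⟩ := exists_prime_orderOf_dvd_card' r hd
  have hxnd : ¬ orderOf x ∣ 2 := fun h => hr2 ((Nat.prime_dvd_prime_iff_eq hr Nat.prime_two).1 (hx ▸ h))
  obtain ⟨w, hw2, hwx⟩ := PSL2.exists_inverting 2 hxnd
  refine ⟨x, w, hx, ?_, hwx, fun y hy => PSL2.conj_zpowers 2 hxnd (hx.trans hy.symm)⟩
  refine Involution.orderOf_of_sq hw2 fun h => hxnd (orderOf_dvd_of_pow_eq_one ?_)
  rw [h, inv_one, one_mul, mul_one] at hwx
  rw [pow_two]
  calc x * x = x * x⁻¹ := by rw [← hwx]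
    _ = 1 := mul_inv_cancel x

end

end Cfsg.Agent.GraphCIT
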