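import Cfsg.Agent.EqLemmas
import Cfsg.Agent.Lib.GraphCIT.PslEven
import Cfsg.Agent.Lib.Suzuki.Partition
import Cfsg.Agent.Lib.Suzuki.LieModel
import Cfsg.Agent.Lib.Suzuki.Simple

/-!
`Sz(q)`: prime graph facts, one class of involutions and an inverted element (owner: helper96).
-/

set_option autoImplicit false

open Cfsg
open scoped Pointwise

namespace Cfsg.Agent.GraphCIT

variable {F : Type*} [Field F] [Fintype F] {m : ℕ}

section
variable (hm : 1 ≤ m) (hF : Fintype.card F = 2 ^ (2 * m + 1))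
include hm hF

theorem finite_sz : Finite (Sz F m) :=
  Nat.finite_of_card_ne_zero (by
    rw [Suzuki.card_sz hm hF]
    have h1 := Nat.one_lt_two_pow (n := 2 * m + 1) (by omega)
    have h2 : 0 < 2 ^ (2 * m + 1) - 1 := by omega
    positivity)

theorem centralizer_card_cases {x : Sz F m} (hx : x ≠ 1) :
    (∃ j : ℕ, orderOf x ∣ 2 ^ j) ∨ orderOf x ∣ 2 ^ (2 * m + 1) - 1 ∨
      orderOf x ∣ (2 ^ (2 * m + 1)) ^ 2 + 1 := by
  have hmem : x ∈ Subgroup.centralizer ({x} : Set (Sz F m)) := Subgroup.mem_centralizer_singleton_iff.2 rfl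
  rcases Suzuki.centralizer_cases hm hF hx with ⟨s, hs⟩ | ⟨-, -, hc⟩
  · left
    haveI : Fact (Nat.Prime 2) := ⟨Nat.prime_two⟩
    have := Subgroup.orderOf_dvd_natCard _ (hs hmem)
    rw [Suzuki.card_map_conj, Suzuki.card_uSub, ← pow_mul] at this
    exact ⟨_, this⟩
  · have hd := Subgroup.orderOf_dvd_natCard _ hmem
    simp only [Set.mem_insert_iff, Set.mem_singleton_iff] at hc
    rcases hc with hc | hc | hc <;> rw [hc] at hd
    · exact Or.inr (Or.inl hd)
    · exact Or.inr (Or.inr (hd.trans (Suzuki.torusA_mul_torusB m ▸ dvd_mul_right _ _)))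
    · exact Or.inr (Or.inr (hd.trans (Suzuki.torusA_mul_torusB m ▸ dvd_mul_left _ _)))

theorem no_two_mul_sz {r : ℕ} (hr : r.Prime) (hr2 : r ≠ 2) (x : Sz F m) : orderOf x ≠ 2 * r := by
  intro hx
  have hx1 : x ≠ 1 := fun e => by rw [e, orderOf_one] at hx; omega
  rcases centralizer_card_cases hm hF hx1 with ⟨j, h⟩ | h | h <;> rw [hx] at h
  · exact hr2 ((Nat.prime_dvd_prime_iff_eq hr Nat.prime_two).1 (hr.dvd_of_dvd_pow ((dvd_mul_left r 2).trans h)))
  · exact not_two_dvd_two_pow_sub_one (by omega) ((dvd_mul_right 2 r).trans h)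
  · have h2 := (dvd_mul_right 2 r).trans h
    rw [← pow_mul] at h2
    exact not_two_dvd_two_pow_add_one (by omega) h2

theorem no_mul_sz {r s : ℕ} (hr : r.Prime) (hs : s.Prime) (hr1 : r ∣ 2 ^ (2 * m + 1) - 1)
    (hs1 : s ∣ (2 ^ (2 * m + 1)) ^ 2 + 1) (x : Sz F m) : orderOf x ≠ r * s := by
  intro hx
  have hcop := Suzuki.coprime_pred (2 ^ (2 * m + 1)) Suzuki.two_dvd_q
  have hx1 : x ≠ 1 := fun e => by
    rw [e, orderOf_one] at hx
    exact hr.ne_one (Nat.eq_one_of_mul_eq_one_right hx.symm)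
  rcases centralizer_card_cases hm hF hx1 with ⟨j, h⟩ | h | h <;> rw [hx] at h
  · have := (Nat.prime_dvd_prime_iff_eq hr Nat.prime_two).1 (hr.dvd_of_dvd_pow ((dvd_mul_right r s).trans h))
    subst this
    exact not_two_dvd_two_pow_sub_one (by omega) hr1
  · exact hs.ne_one (Nat.eq_one_of_dvd_coprimes hcop ((dvd_mul_left s r).trans h) hs1)
  · exact hr.ne_one (Nat.eq_one_of_dvd_coprimes hcop hr1 ((dvd_mul_right r s).trans h))

theorem card_sz_dvd_iff {r : ℕ} (hr : r.Prime) (hr2 : r ≠ 2) :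
    r ∣ Nat.card (Sz F m) ↔ r ∣ 2 ^ (2 * m + 1) - 1 ∨ r ∣ (2 ^ (2 * m + 1)) ^ 2 + 1 := by
  rw [Suzuki.card_sz hm hF]
  constructor
  · intro h
    rcases hr.dvd_mul.1 h with h | h
    · refine Or.inr ((hr.dvd_mul.1 h).resolve_left fun h => hr2 ?_)
      exact (Nat.prime_dvd_prime_iff_eq hr Nat.prime_two).1 (hr.dvd_of_dvd_pow (hr.dvd_of_dvd_pow h))
    · exact Or.inl h
  · rintro (h | h)
    · exact h.mul_left _
    · exact (h.mul_left _).mul_right _

theorem oneInvClass_sz : OneInvClass (Sz F m) := by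
  haveI : Fact (Nat.Prime 2) := ⟨Nat.prime_two⟩
  haveI := finite_sz hm hF
  refine ⟨exists_inv_of_dvd_card ?_, ?_⟩
  · rw [Suzuki.card_sz hm hF]
    exact (((dvd_pow_self 2 (by omega : 2 * m + 1 ≠ 0)).trans (dvd_pow_self _ two_ne_zero)).mul_right _).mul_right _
  haveI := Suzuki.charTwo hF
  suffices key : ∀ t : Sz F m, orderOf t = 2 → IsConj t (Suzuki.tSz hF 0 1) from
    fun s t hs ht => (key s hs).trans (key t ht).symm
  intro t ht
  have hP : IsPGroup 2 (Subgroup.zpowers t) :=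
    IsPGroup.of_card (n := 1) (by rw [Nat.card_zpowers, ht, pow_one])
  obtain ⟨P, hP'⟩ := hP.exists_le_sylow
  obtain ⟨g, hg⟩ := MulAction.exists_smul_eq (Sz F m) (Suzuki.uSylow hm hF) P
  have hmem : g⁻¹ * t * g ∈ Suzuki.uSub hF := by
    have := hP' (Subgroup.mem_zpowers t)
    rw [← hg, Sylow.coe_subgroup_smul] at this
    rw [← Suzuki.map_conj_iff]
    exact this
  obtain ⟨a, b, hab⟩ := hmem
  have hab2 : Suzuki.tSz hF a b * Suzuki.tSz hF a b = 1 := by
    rw [← hab]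
    calc g⁻¹ * t * g * (g⁻¹ * t * g) = g⁻¹ * (t * t) * g := by group
      _ = 1 := by rw [Involution.mul_self ht]; group
  rw [Suzuki.tSz_mul, Suzuki.tSz_eq_one_iff] at hab2
  have ha : a = 0 := by
    have h := hab2.2
    rw [CharTwo.add_self_eq_zero, zero_add] at h
    rcases mul_eq_zero.1 h with h | h
    · exact Suzuki.th_eq_zero.1 h
    · exact h
  subst ha
  have hb : b ≠ 0 := fun hb => Involution.ne_one ht (by
    rw [hb, Suzuki.tSz_zero] at hab
    calc t = g * (g⁻¹ * t * g) * g⁻¹ := by group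
      _ = 1 := by rw [hab, mul_one, mul_inv_cancel])
  obtain ⟨k, hk⟩ := (Suzuki.thSucc_bijective hF).2 b
  have hk0 : k ≠ 0 := fun h => hb (by rw [← hk, h]; simp)
  refine IsConj.symm (isConj_iff.2 ⟨g * Suzuki.dSz hF (Units.mk0 k hk0), ?_⟩)
  rw [mul_inv_rev, mul_assoc g, Suzuki.dSz_conj_tSz, mul_zero, mul_one, Units.val_mk0,
    show Suzuki.th m k * k = b from hk, ← hab]
  group

theorem invertedTorus_sz {r : ℕ} (hr : r.Prime) (hr2 : r ≠ 2) (hd : r ∣ 2 ^ (2 * m + 1) - 1) :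
    InvertedTorus (Sz F m) r := by
  classical
  haveI := Fact.mk hr
  haveI := finite_sz hm hF
  have hcard : Nat.card Fˣ = 2 ^ (2 * m + 1) - 1 := by rw [Nat.card_units, Nat.card_eq_fintype_card, hF]
  obtain ⟨k, hk⟩ := exists_prime_orderOf_dvd_card' (G := Fˣ) r (hcard ▸ hd)
  have hinj : Function.Injective (Suzuki.dHom hF) := fun a b h => Suzuki.dSz_inj hF h
  set x := Suzuki.dSz hF k with hx
  have hxo : orderOf x = r := (orderOf_injective _ hinj k).trans hk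
  have hwx : Suzuki.wSz hF * x * (Suzuki.wSz hF)⁻¹ = x⁻¹ := by
    rw [hx, Suzuki.wSz_conj_dSz, mul_inv_cancel_right, Suzuki.dSz_inv]
  refine ⟨x, Suzuki.wSz hF, hxo, Involution.orderOf_of_sq (Suzuki.wSz_mul_self hF) fun h => ?_, hwx,
    fun y hy => ?_⟩
  · rw [h, inv_one, one_mul, mul_one] at hwx
    have h2 : orderOf x ∣ 2 := orderOf_dvd_of_pow_eq_one (by
      rw [pow_two]
      calc x * x = x * x⁻¹ := by rw [← hwx]
        _ = 1 := mul_inv_cancel x)
    exact hr2 ((Nat.prime_dvd_prime_iff_eq hr Nat.prime_two).1 (hxo ▸ h2))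
  have hY : IsPGroup r (Subgroup.zpowers y) := IsPGroup.of_card (n := 1) (by rw [Nat.card_zpowers, hy, pow_one])
  have hX : IsPGroup r (Subgroup.zpowers x) := IsPGroup.of_card (n := 1) (by rw [Nat.card_zpowers, hxo, pow_one])
  obtain ⟨P, hP⟩ := hY.exists_le_sylow
  obtain ⟨Q, hQ⟩ := hX.exists_le_sylow
  obtain ⟨s, hs⟩ := MulAction.exists_smul_eq (Sz F m) Q P
  refine ⟨s, ?_⟩
  haveI := Suzuki.sylow_odd_cyclic hm hF hr2 P
  obtain ⟨⟨c, hc⟩, hgen⟩ := IsCyclic.exists_generator (α := P)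
  have hPle : ∀ z ∈ (P : Subgroup (Sz F m)), z ∈ Subgroup.zpowers c := fun z hz => by
    obtain ⟨j, hj⟩ := hgen ⟨z, hz⟩
    exact ⟨j, congrArg Subtype.val hj⟩
  refine PSL2.zpowers_eq_of_orderOf (hPle _ ?_) (hPle _ (hP (Subgroup.mem_zpowers y))) ?_
  · rw [← hs, Sylow.coe_subgroup_smul]
    exact ⟨x, hQ (Subgroup.mem_zpowers x), rfl⟩
  · rw [hy, show s * x * s⁻¹ = MulAut.conj s x from rfl, MulEquiv.orderOf_eq, hxo]

end

end Cfsg.Agent.GraphCIT
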