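import Cfsg.Agent.EqLemmas
import Cfsg.Agent.Lib.GraphCIT.SzFacts
import Cfsg.Agent.Lib.EPPO.Main
import Cfsg.Agent.Lib.CIT.Basic
import Cfsg.Agent.Lib.PSL2.Involutions
import Cfsg.Agent.S0820

/-!
The simple CIT groups: one class of involutions; identification by the odd primes dividing the order
(owner: helper96).
-/

set_option autoImplicit false

open Cfsg

namespace Cfsg.Agent.GraphCIT

universe u v

/-- `PSL_2(2^n)`. -/
def IsPslEven (S : Type u) [Group S] (n : ℕ) : Prop :=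
  ∃ (K : Type) (_ : Field K) (_ : Fintype K), Fintype.card K = 2 ^ n ∧ Nonempty (S ≃* PSL2.PSL2 K)

/-- `Sz(2^(2a+1))`. -/
def IsSzParam (S : Type u) [Group S] (a : ℕ) : Prop :=
  ∃ (K : Type) (_ : Field K) (_ : Fintype K), Fintype.card K = 2 ^ (2 * a + 1) ∧ Nonempty (S ≃* Sz K a)

/-- What the arithmetic uses about the remaining simple CIT groups. -/
def IsSmallMember (S : Type u) [Group S] : Prop :=
  (∀ r : ℕ, r.Prime → r ∣ Nat.card S → r ≠ 2 → ordTwo r ≤ 6) ∨
  (∃ p n : ℕ, p.Prime ∧ p + 1 = 2 ^ n ∧ p ∣ Nat.card S ∧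
      ∀ r : ℕ, r.Prime → r ∣ Nat.card S → r ≠ 2 → r = p ∨ ordTwo r ∣ n - 1) ∨
  (∃ p n : ℕ, 0 < n ∧ p.Prime ∧ p = 2 ^ n + 1 ∧ p ∣ Nat.card S ∧
      ∀ r : ℕ, r.Prime → r ∣ Nat.card S → r ≠ 2 → r = p ∨ (2 ≤ n ∧ ordTwo r ∣ 2 * (n - 1)))

theorem ordTwo_five : ordTwo 5 ∣ 4 := ordTwo_dvd_iff.2 (by norm_num)

theorem ordTwo_seven : ordTwo 7 ∣ 3 := ordTwo_dvd_iff.2 (by norm_num)

theorem ordTwo_le_six {r : ℕ} (hr : r.Prime) (hr2 : r ≠ 2) (h : r ∣ 2 * 3 * 5 * 7) : ordTwo r ≤ 6 := by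
  rcases hr.dvd_mul.1 h with h | h
  · rcases hr.dvd_mul.1 h with h | h
    · rcases hr.dvd_mul.1 h with h | h
      · exact absurd ((Nat.prime_dvd_prime_iff_eq hr Nat.prime_two).1 h) hr2
      · obtain rfl := (Nat.prime_dvd_prime_iff_eq hr Nat.prime_three).1 h
        rw [ordTwo_three]; norm_num
    · obtain rfl := (Nat.prime_dvd_prime_iff_eq hr Nat.prime_five).1 h
      exact (Nat.le_of_dvd (by norm_num) ordTwo_five).trans (by norm_num)
  · obtain rfl := (Nat.prime_dvd_prime_iff_eq hr (by norm_num : Nat.Prime 7)).1 h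
    exact (Nat.le_of_dvd (by norm_num) ordTwo_seven).trans (by norm_num)

theorem pslOdd_facts {K : Type} [Field K] [Fintype K] (hodd : Odd (Fintype.card K)) (h3 : 3 ≤ Fintype.card K) :
    OneInvClass (PSL2.PSL2 K) ∧ 3 ∣ Nat.card (PSL2.PSL2 K) ∧
      2 * Nat.card (PSL2.PSL2 K) = Fintype.card K * ((Fintype.card K + 1) * (Fintype.card K - 1)) := by
  have hc := PSL2.card_psl_mul (F := K)
  rw [Nat.card_eq_fintype_card (α := K)] at hc
  obtain ⟨j, hj⟩ := hodd
  rw [Nat.gcd_eq_left (by omega : 2 ∣ Fintype.card K - 1)] at hc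
  refine ⟨⟨exists_inv_of_dvd_card ?_, fun s t hs ht =>
    PSL2.involution_isConj (by rw [Nat.card_eq_fintype_card, hj]; exact ⟨j, rfl⟩) hs ht⟩, ?_, hc⟩
  · have h4 : 4 ∣ (Fintype.card K + 1) * (Fintype.card K - 1) := by
      rw [hj, Nat.add_sub_cancel, show 2 * j + 1 + 1 = 2 * (j + 1) by ring]
      exact ⟨(j + 1) * j, by ring⟩
    obtain ⟨e, he⟩ := h4
    rw [he, show Fintype.card K * (4 * e) = 2 * (2 * (Fintype.card K * e)) by ring] at hc
    exact ⟨_, mul_left_cancel₀ two_ne_zero hc⟩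
  · refine (Nat.Coprime.dvd_of_dvd_mul_left (by norm_num : Nat.Coprime 3 2) ?_)
    rw [hc]
    have : Fintype.card K % 3 = 0 ∨ (Fintype.card K + 1) % 3 = 0 ∨ (Fintype.card K - 1) % 3 = 0 := by
      rcases (show Fintype.card K % 3 = 0 ∨ Fintype.card K % 3 = 1 ∨ Fintype.card K % 3 = 2 by omega) with h | h | h <;> omega
    rcases this with h | h | h
    · exact (Nat.dvd_of_mod_eq_zero h).mul_right _
    · exact ((Nat.dvd_of_mod_eq_zero h).mul_right _).mul_left _
    · exact ((Nat.dvd_of_mod_eq_zero h).mul_left _).mul_left _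

variable {S : Type u} [Group S] [Finite S] [IsSimpleGroup S]

/-- The trichotomy used below. -/
theorem member_cases (hCIT : EPPO.CITClass.{u}) (hnc : ∃ a b : S, a * b ≠ b * a) (hS : CIT.IsCIT S) :
    OneInvClass S ∧ ((∃ n : ℕ, 0 < n ∧ IsPslEven S n) ∨ (∃ a : ℕ, 1 ≤ a ∧ IsSzParam S a) ∨
      (IsSmallMember S ∧ 3 ∣ Nat.card S)) := by
  rcases hCIT S hnc hS with ⟨K, iK, iF, hq, ⟨e⟩⟩ | ⟨K, iK, iF, h4, ⟨e⟩⟩ | hSz
  · have hcard : Nat.card S = Nat.card (PSL2.PSL2 K) := Nat.card_congr e.toEquiv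
    have h1K := Fintype.one_lt_card (α := K)
    rcases hq with h9 | ⟨n, hn⟩ | ⟨hp, k, hk⟩
    · obtain ⟨hone, h3, hc⟩ := pslOdd_facts (K := K) (by rw [h9]; decide) (by omega)
      refine ⟨hone.map e.symm, Or.inr (Or.inr ⟨Or.inl fun r hr hd hr2 => ordTwo_le_six hr hr2 ?_, hcard ▸ h3⟩)⟩
      have h720 : r ∣ 2 ^ 4 * 3 ^ 2 * 5 := by
        have : r ∣ 2 * Nat.card S := hd.mul_left 2
        rw [hcard, hc, h9] at this
        exact this.trans (by norm_num)
      rcases hr.dvd_mul.1 h720 with h | h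
      · rcases hr.dvd_mul.1 h with h | h
        · exact (hr.dvd_of_dvd_pow h).trans (by norm_num)
        · exact (hr.dvd_of_dvd_pow h).trans (by norm_num)
      · exact h.trans (by norm_num)
    · have hn0 : 0 < n := Nat.pos_of_ne_zero fun h => by rw [h, pow_zero] at hn; omega
      exact ⟨(oneInvClass_pslEven hn0 hn).map e.symm, Or.inl ⟨n, hn0, K, iK, iF, hn, ⟨e⟩⟩⟩
    · have hk0 : 0 < k := Nat.pos_of_ne_zero fun h => by
        subst h
        rcases hk with hk | hk <;> rw [pow_zero] at hk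
        · have hn : Fintype.card K = 2 ^ 1 := hk
          obtain ⟨a, b, hab⟩ := hnc
          haveI : Group.IsSolvable S := S0144.result 2 3 1 1 Nat.prime_two Nat.prime_three (by
            rw [Nat.card_congr e.toEquiv, card_pslEven one_pos hn]; norm_num)
          exact hab (IsSimpleGroup.comm_iff_isSolvable.2 inferInstance a b)
        · omega
      have h2k : 2 ∣ 2 ^ k := dvd_pow_self 2 hk0.ne'
      have hodd : Odd (Fintype.card K) := by
        rw [← Nat.not_even_iff_odd, even_iff_two_dvd]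
        rcases hk with hk | hk <;> omega
      obtain ⟨hone, h3, hc⟩ := pslOdd_facts (K := K) hodd (by
        rcases hodd with ⟨j, hj⟩; omega)
      have hself : Fintype.card K ∣ Nat.card S := by
        refine (Nat.Coprime.dvd_of_dvd_mul_left ?_ (show Fintype.card K ∣ 2 * Nat.card S from ?_))
        · exact (Nat.coprime_two_right.2 hodd)
        · rw [hcard, hc]; exact dvd_mul_right _ _
      have hdiv : ∀ r : ℕ, r.Prime → r ∣ Nat.card S →
          r ∣ Fintype.card K ∨ r ∣ Fintype.card K - 1 ∨ r ∣ Fintype.card K + 1 := by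
        intro r hr hd
        have := hd.mul_left 2
        rw [hcard, hc] at this
        rcases hr.dvd_mul.1 this with h | h
        · exact Or.inl h
        · rcases hr.dvd_mul.1 h with h | h
          · exact Or.inr (Or.inr h)
          · exact Or.inr (Or.inl h)
      refine ⟨hone.map e.symm, Or.inr (Or.inr ⟨Or.inr ?_, hcard ▸ h3⟩)⟩
      rcases hk with hk | hk
      · exact Or.inr ⟨_, k, hk0, hp, hk, hself, fun r hr hd hr2 => ordTwo_fermat hk0 hp hk hr hr2 (hdiv r hr hd)⟩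
      · exact Or.inl ⟨_, k, hp, hk, hself, fun r hr hd hr2 => ordTwo_mersenne hp hk hr hr2 (hdiv r hr hd)⟩
  · have hcard : Nat.card S = 20160 := (Nat.card_congr e.toEquiv).trans (EPPO.card_pslThree_four h4)
    have hone : OneInvClass (Matrix.ProjectiveSpecialLinearGroup (Fin 3) K) :=
      ⟨exists_inv_of_dvd_card (by rw [EPPO.card_pslThree_four h4]; norm_num), fun s t hs ht => S0820.result h4 s t hs ht⟩
    refine ⟨hone.map e.symm, Or.inr (Or.inr ⟨Or.inl fun r hr hd hr2 => ordTwo_le_six hr hr2 ?_, by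
      rw [hcard]; norm_num⟩)⟩
    rw [hcard, show 20160 = 2 ^ 6 * 3 ^ 2 * 5 * 7 by norm_num] at hd
    rcases hr.dvd_mul.1 hd with h | h
    · rcases hr.dvd_mul.1 h with h | h
      · rcases hr.dvd_mul.1 h with h | h
        · exact (hr.dvd_of_dvd_pow h).trans (by norm_num)
        · exact (hr.dvd_of_dvd_pow h).trans (by norm_num)
      · exact h.trans (by norm_num)
    · exact h.trans (by norm_num)
  · obtain ⟨K, iK, iF, a, ha, hK, ⟨e⟩⟩ := hSz
    exact ⟨(oneInvClass_sz ha hK).map (e.trans (Suzuki.lieEquiv ha hK).symm).symm,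
      Or.inr (Or.inl ⟨a, ha, K, iK, iF, hK, ⟨e.trans (Suzuki.lieEquiv ha hK).symm⟩⟩)⟩

omit [Finite S] [IsSimpleGroup S] in
theorem not_three_dvd_of_isSzParam {a : ℕ} (ha : 1 ≤ a) (h : IsSzParam S a) : ¬ 3 ∣ Nat.card S := by
  obtain ⟨K, iK, iF, hK, ⟨e⟩⟩ := h
  rw [Nat.card_congr e.toEquiv, Suzuki.card_sz ha hK]
  exact Suzuki.not_three_dvd a

/-- The simple CIT group with the odd primes of `PSL_2(2^m)`. -/
theorem member_psl_target (hCIT : EPPO.CITClass.{u}) (hnc : ∃ a b : S, a * b ≠ b * a) (hS : CIT.IsCIT S)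
    {m : ℕ} (hm : 4 ≤ m) (hpr : ∀ r : ℕ, r.Prime → r ≠ 2 → (r ∣ Nat.card S ↔ ordTwo r ∣ 2 * m)) :
    IsPslEven S m := by
  obtain ⟨r, hr, hr2, -, hro⟩ := exists_prime_ordTwo (n := 2 * m) (by omega) (by omega)
  have hrS : r ∣ Nat.card S := (hpr r hr hr2).2 (hro ▸ dvd_rfl)
  rcases (member_cases hCIT hnc hS).2 with ⟨n, hn, hiso⟩ | ⟨a, ha, hiso⟩ | ⟨hsmall, -⟩
  · obtain ⟨K, iK, iF, hK, ⟨e⟩⟩ := id hiso
    have hiff : ∀ s : ℕ, s.Prime → s ≠ 2 → (s ∣ Nat.card S ↔ ordTwo s ∣ 2 * n) := fun s hs hs2 => by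
      rw [Nat.card_congr e.toEquiv]; exact dvd_card_pslEven hn hK hs hs2
    have h1 : 2 * m ∣ 2 * n := hro ▸ (hiff r hr hr2).1 hrS
    have hmn : m ≤ n := by have := Nat.le_of_dvd (by omega) h1; omega
    obtain ⟨s, hs, hs2, -, hso⟩ := exists_prime_ordTwo (n := 2 * n) (by omega) (by omega)
    have h2 := (hpr s hs hs2).1 ((hiff s hs hs2).2 (hso ▸ dvd_rfl))
    rw [hso] at h2
    have : m = n := by have := Nat.le_of_dvd (by omega) h2; omega
    exact this ▸ hiso
  · refine absurd ((hpr 3 Nat.prime_three (by norm_num)).2 ?_) (not_three_dvd_of_isSzParam ha hiso)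
    rw [ordTwo_three]; exact dvd_mul_right 2 m
  · exfalso
    rcases hsmall with h | ⟨p, n, hp, hpn, hpS, h⟩ | ⟨p, n, hn, hp, hpn, hpS, h⟩
    · have := h r hr hrS hr2
      omega
    · have hp2 : p ≠ 2 := by
        rintro rfl
        rcases n with _ | _ | n
        · norm_num at hpn
        · norm_num at hpn
        · rw [pow_succ, pow_succ] at hpn; omega
      have hpo := ordTwo_mersenne_self hp hpn
      have hnm : n ∣ 2 * m := hpo ▸ (hpr p hp hp2).1 hpS
      have hnp : n.Prime := (Nat.prime_of_pow_sub_one_prime (a := 2) (by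
        rintro rfl; simp only [pow_one] at hpn; have := hp.two_le; omega) (by rw [← hpn]; simpa using hp)).2
      rcases h r hr hrS hr2 with rfl | h1
      · rw [hro] at hpo
        subst hpo
        exact Nat.not_prime_mul (by norm_num) (by omega) hnp
      · rw [hro] at h1
        have := hnp.two_le
        have h3 := Nat.le_of_dvd (by omega) h1
        have h4 := Nat.le_of_dvd (by omega) (hnm)
        obtain ⟨c, hc⟩ := hnm
        obtain ⟨d, hd⟩ := h1
        have hdvd : n ∣ n - 1 := ⟨c * d, by rw [hd, hc]; ring⟩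
        have := Nat.le_of_dvd (by omega) hdvd
        omega
    · have hp2 : p ≠ 2 := by
        rintro rfl
        have := Nat.one_lt_two_pow hn.ne'
        omega
      have hpo := ordTwo_fermat_self hn hp hpn
      have hnm : 2 * n ∣ 2 * m := hpo ▸ (hpr p hp hp2).1 hpS
      have hnm' := Nat.le_of_dvd (by omega) hnm
      rcases h r hr hrS hr2 with rfl | ⟨hn2, h1⟩
      · have hmn : m = n := by omega
        subst hmn
        obtain ⟨s, hs, hs2, -, hso⟩ := exists_prime_ordTwo (n := m) (by omega) (by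
          rintro rfl; subst hpn; norm_num at hp)
        rcases h s hs ((hpr s hs hs2).2 (hso ▸ dvd_mul_left m 2)) hs2 with rfl | ⟨-, h1⟩
        · omega
        · rw [hso] at h1
          have h2 : m ∣ 2 * (m - 1) + 2 := ⟨2, by omega⟩
          have := Nat.le_of_dvd two_pos ((Nat.dvd_add_right h1).1 h2)
          omega
      · rw [hro] at h1
        have := Nat.le_of_dvd (by omega) h1
        omega

/-- The simple CIT group with the odd primes of `Sz(2^(2a+1))`. -/
theorem member_sz_target (hCIT : EPPO.CITClass.{u}) (hnc : ∃ x y : S, x * y ≠ y * x) (hS : CIT.IsCIT S)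
    {a : ℕ} (ha : 1 ≤ a) (hpr : ∀ r : ℕ, r.Prime → r ≠ 2 →
      (r ∣ Nat.card S ↔ r ∣ 2 ^ (2 * a + 1) - 1 ∨ r ∣ (2 ^ (2 * a + 1)) ^ 2 + 1)) :
    IsSzParam S a := by
  have h3 : ¬ 3 ∣ Nat.card S := fun h => Suzuki.not_three_dvd a (by
    rcases (hpr 3 Nat.prime_three (by norm_num)).1 h with h | h
    · exact h.mul_left _
    · exact (h.mul_left _).mul_right _)
  rcases (member_cases hCIT hnc hS).2 with ⟨n, hn, hiso⟩ | ⟨b, hb, hiso⟩ | ⟨-, h⟩
  · exfalso
    obtain ⟨K, iK, iF, hK, ⟨e⟩⟩ := hiso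
    refine h3 ?_
    rw [Nat.card_congr e.toEquiv]
    exact (dvd_card_pslEven hn hK Nat.prime_three (by norm_num)).2 (ordTwo_three ▸ dvd_mul_right 2 n)
  · obtain ⟨K, iK, iF, hK, ⟨e⟩⟩ := id hiso
    have hiff : ∀ r : ℕ, r.Prime → r ≠ 2 →
        (r ∣ Nat.card S ↔ r ∣ 2 ^ (2 * b + 1) - 1 ∨ r ∣ (2 ^ (2 * b + 1)) ^ 2 + 1) := fun r hr hr2 => by
      rw [Nat.card_congr e.toEquiv]; exact card_sz_dvd_iff hb hK hr hr2
    have key : ∀ c d : ℕ, 1 ≤ c →
        (∀ r : ℕ, r.Prime → r ≠ 2 → (r ∣ Nat.card S ↔ r ∣ 2 ^ (2 * c + 1) - 1 ∨ r ∣ (2 ^ (2 * c + 1)) ^ 2 + 1)) →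
        (∀ r : ℕ, r.Prime → r ≠ 2 → (r ∣ Nat.card S ↔ r ∣ 2 ^ (2 * d + 1) - 1 ∨ r ∣ (2 ^ (2 * d + 1)) ^ 2 + 1)) →
        c ≤ d := by
      intro c d hc hpc hpd
      obtain ⟨r, hr, hr2, hrd, hro⟩ := exists_prime_ordTwo (n := 4 * (2 * c + 1)) (by omega) (by omega)
      have hrS : r ∣ Nat.card S := by
        refine (hpc r hr hr2).2 (Or.inr ?_)
        have e1 : 2 ^ (4 * (2 * c + 1)) - 1 =
            ((2 ^ (2 * c + 1)) ^ 2 + 1) * (2 ^ (2 * (2 * c + 1)) - 1) := by
          rw [show 4 * (2 * c + 1) = 2 * (2 * (2 * c + 1)) by ring, two_pow_two_mul_sub_one, ← pow_mul,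
            mul_comm (2 * c + 1) 2]
        rw [e1] at hrd
        refine (hr.dvd_mul.1 hrd).resolve_right fun h => ?_
        have := Nat.le_of_dvd (by omega) (ordTwo_dvd_iff.2 h)
        omega
      have h4 : ordTwo r ∣ 4 * (2 * d + 1) := by
        rcases (hpd r hr hr2).1 hrS with h | h
        · exact (ordTwo_dvd_iff.2 h).trans (dvd_mul_left _ 4)
        · rw [← pow_mul] at h
          have := ordTwo_dvd_two_mul h
          rwa [show 4 * (2 * d + 1) = 2 * ((2 * d + 1) * 2) by ring]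
      rw [hro] at h4
      have := Nat.le_of_dvd (by omega) h4
      omega
    have : a = b := le_antisymm (key a b ha hpr hiff) (key b a hb hiff hpr)
    exact this ▸ hiso
  · exact absurd h h3

end Cfsg.Agent.GraphCIT
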