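import Cfsg.Agent.EqLemmas
import Cfsg.Agent.Lib.CIT.Basic
import Cfsg.Agent.Lib.EPPO.Structure
import Cfsg.Agent.Lib.OddOrderTheorem.FTUse
import Cfsg.Agent.Lib.FourPrimes.Main

/-!
Nonsolvable CIT groups: the solvable radical is the 2-core and the socle is simple (owner: helper96).

* `odd_normal_eq_bot`, `eq_bot_of_solvable_normal`
* `exists_simple_normal`
* `exists_index_two_pow`
-/

set_option autoImplicit false

open Cfsg Subgroup

namespace Cfsg.Agent.GraphCIT

universe u

open CIT

variable {G : Type u} [Group G] [Finite G]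

theorem odd_normal_eq_bot (hG : IsCIT G) (hns : ¬ Group.IsSolvable G) (N : Subgroup G) [N.Normal]
    (hodd : Odd (Nat.card N)) : N = ⊥ := by
  haveI : Fact (Nat.Prime 2) := ⟨Nat.prime_two⟩
  by_contra hN
  obtain ⟨⟨n, hn⟩, hn1⟩ := N.ne_bot_iff_exists_ne_one.1 hN
  have hn1' : n ≠ 1 := fun e => hn1 (Subtype.ext e)
  have hinv : ∀ y : G, orderOf y = 2 → ∀ x ∈ N, y * x * y⁻¹ = x⁻¹ := by
    intro y hy x hx
    let φ : N →* N := (MulAut.conjNormal y).toMonoidHom
    have hfix : MonoidHom.FixedPointFree φ := fun v hv => Subtype.ext (hG.eq_one_of_commute hy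
      (hodd.of_dvd_nat (Subgroup.orderOf_dvd_natCard N v.2))
      (mul_inv_eq_iff_eq_mul.1 (congrArg Subtype.val hv : y * (v : G) * y⁻¹ = v)).symm)
    have hinvol : Function.Involutive φ := fun v => Subtype.ext (by
      show y * (y * (v : G) * y⁻¹) * y⁻¹ = v
      have hy2 := Involution.mul_self hy
      rw [inv_eq_of_mul_eq_one_right hy2]
      calc y * (y * (v : G) * y) * y = y * y * v * (y * y) := by group
        _ = v := by rw [hy2, one_mul, mul_one])
    exact congrArg Subtype.val (congrFun (hfix.coe_eq_inv_of_involutive hinvol) ⟨x, hx⟩)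
  set C := centralizer (N : Set G) with hC
  have hCodd : Odd (Nat.card C) := by
    rw [← Nat.not_even_iff_odd, even_iff_two_dvd]
    intro h2
    obtain ⟨t, ht⟩ := exists_prime_orderOf_dvd_card' 2 h2
    exact hn1' (hG.eq_one_of_commute (t := (t : G)) (by rw [Subgroup.orderOf_coe, ht])
      (hodd.of_dvd_nat (Subgroup.orderOf_dvd_natCard N hn)) (mem_centralizer_iff.1 t.2 n hn))
  have h2G : 2 ∣ Nat.card G := by
    by_contra h2
    exact hns (OddOrderTheorem.solvable (Nat.not_even_iff_odd.1 fun e => h2 (even_iff_two_dvd.1 e)))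
  obtain ⟨z, hz⟩ := exists_prime_orderOf_dvd_card' 2 h2G
  have hprod : ∀ y : G, orderOf y = 2 → z * y ∈ C := by
    intro y hy
    rw [hC, mem_centralizer_iff]
    intro v hv
    have h1 : z * (y * v * y⁻¹) * z⁻¹ = v := by
      rw [hinv y hy v hv, hinv z hz _ (N.inv_mem hv), inv_inv]
    calc v * (z * y) = z * (y * v * y⁻¹) * z⁻¹ * (z * y) := by rw [h1]
      _ = z * y * v := by group
  have hcover : centralizer ({z} : Set G) ⊔ C = ⊤ := by
    rw [eq_top_iff]
    intro g _
    have hy : orderOf (g * z * g⁻¹) = 2 := by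
      rw [show g * z * g⁻¹ = MulAut.conj g z from rfl, MulEquiv.orderOf_eq]; exact hz
    set c := z * (g * z * g⁻¹) with hcdef
    have hc : c ∈ C := hprod _ hy
    obtain ⟨j, hj⟩ := hCodd.of_dvd_nat (Subgroup.orderOf_dvd_natCard C hc)
    have hck : c ^ (2 * j + 1) = 1 := by rw [← hj, pow_orderOf_eq_one]
    set d := c ^ (j + 1) with hd'
    have hdd : d * d = c := by
      rw [hd', ← pow_add, show j + 1 + (j + 1) = 2 * j + 1 + 1 by ring, pow_succ, hck, one_mul]
    have hz2 := Involution.mul_self hz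
    have hy2 := Involution.mul_self hy
    have h1 : z * c * z⁻¹ = c⁻¹ := by
      rw [eq_inv_iff_mul_eq_one, hcdef, inv_eq_of_mul_eq_one_right hz2]
      calc z * (z * (g * z * g⁻¹)) * z * (z * (g * z * g⁻¹))
          = (z * z) * (g * z * g⁻¹) * (z * z) * (g * z * g⁻¹) := by group
        _ = 1 := by rw [hz2, one_mul, mul_one, hy2]
    have h2 : z * d * z⁻¹ = d⁻¹ := by rw [hd', ← conj_pow, h1, inv_pow]
    have hzd : z * d = d⁻¹ * z := by rw [← h2, inv_mul_cancel_right]
    have hgz : g * z * g⁻¹ = d⁻¹ * z * d := by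
      have h1 : g * z * g⁻¹ = z * c := by rw [hcdef, ← mul_assoc, hz2, one_mul]
      rw [h1, ← hzd, mul_assoc, hdd]
    have hmem : d * g ∈ centralizer ({z} : Set G) := by
      rw [mem_centralizer_singleton_iff]
      calc d * g * z = d * (g * z * g⁻¹) * g := by group
        _ = z * (d * g) := by rw [hgz]; group
    rw [show g = d⁻¹ * (d * g) by group]
    exact mul_mem (mem_sup_right (inv_mem (pow_mem hc _))) (mem_sup_left hmem)
  refine hns ?_
  haveI : Group.IsSolvable C := OddOrderTheorem.solvable hCodd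
  have hsurj : Function.Surjective ((QuotientGroup.mk' C).comp (centralizer ({z} : Set G)).subtype) := by
    rw [← MonoidHom.range_eq_top, MonoidHom.range_comp, Subgroup.range_subtype, ← sup_bot_eq
      ((centralizer ({z} : Set G)).map (QuotientGroup.mk' C)), ← QuotientGroup.map_mk'_self C, ← Subgroup.map_sup,
      hcover, ← MonoidHom.range_eq_map]
    exact MonoidHom.range_eq_top.2 (QuotientGroup.mk'_surjective C)
  haveI := (hG z hz).isNilpotent
  haveI : Group.IsSolvable (G ⧸ C) := solvable_of_surjective hsurj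
  exact solvable_of_ker_le_range C.subtype (QuotientGroup.mk' C)
    (by rw [QuotientGroup.ker_mk', Subgroup.range_subtype])

/-- In a nonsolvable CIT group the 2-core is the solvable radical. -/
theorem eq_bot_of_solvable_normal (hG : IsCIT G) (hns : ¬ Group.IsSolvable G) (h2 : pCore 2 G = ⊥)
    (N : Subgroup G) (hN : N.Normal) (hs : Group.IsSolvable N) : N = ⊥ := by
  by_contra hne
  haveI := hN
  haveI := hs
  haveI : Nontrivial N := (Subgroup.nontrivial_iff_ne_bot N).2 hne
  obtain ⟨p, hp, -, hp1⟩ := FourPrimes.exists_pCore_ne_bot N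
  haveI := Fact.mk hp
  haveI : (pCore p N).Characteristic := Subgroup.characteristic_iff_map_le.2 fun φ =>
    (Cores.pCore_map_mulEquiv φ p).le
  haveI := Cores.map_subtype_normal_of_characteristic N (pCore p N)
  have hP : IsPGroup p ((pCore p N).map N.subtype) := (Cores.isPGroup_pCore p N).map _
  refine hp1 ((Subgroup.map_eq_bot_iff_of_injective _ N.subtype_injective).1 ?_)
  rcases eq_or_ne p 2 with rfl | hne2
  · exact le_bot_iff.1 (h2 ▸ Cores.le_pCore inferInstance hP)
  · obtain ⟨k, hk⟩ := IsPGroup.iff_card.1 hP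
    exact odd_normal_eq_bot hG hns _ (hk ▸ (hp.odd_of_ne_two hne2).pow)

/-- A nonsolvable subgroup of a CIT group commutes with no nontrivial subgroup. -/
theorem eq_bot_of_commute (hG : IsCIT G) {A B : Subgroup G} (hB : ¬ Group.IsSolvable B)
    (hAB : A ≤ centralizer (B : Set G)) : A = ⊥ := by
  haveI : Fact (Nat.Prime 2) := ⟨Nat.prime_two⟩
  by_contra hA
  have h2B : 2 ∣ Nat.card B := by
    by_contra h2
    exact hB (OddOrderTheorem.solvable (Nat.not_even_iff_odd.1 fun e => h2 (even_iff_two_dvd.1 e)))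
  obtain ⟨b, hb⟩ := exists_prime_orderOf_dvd_card' 2 h2B
  have hA2 : IsPGroup 2 A := (hG (b : G) (by rw [Subgroup.orderOf_coe, hb])).to_le
    (hAB.trans (centralizer_le (Set.singleton_subset_iff.2 b.2)))
  obtain ⟨⟨q, hq⟩, hq1⟩ := A.ne_bot_iff_exists_ne_one.1 hA
  obtain ⟨y, hy, r, hr, hr2, hyr⟩ := exists_odd_prime_of_not_two (H := B) fun h => hB (by
    haveI := h.isNilpotent; infer_instance)
  have := hG.fpf hA2 hq (fun e => hq1 (Subtype.ext e)) (hyr ▸ hr.odd_of_ne_two hr2)
    (mem_centralizer_iff.1 (hAB hq) y hy)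
  rw [this, orderOf_one] at hyr
  exact hr.one_lt.ne hyr

theorem exists_simple_normal [Nontrivial G] (hG : IsCIT G)
    (hrad : ∀ N : Subgroup G, N.Normal → Group.IsSolvable N → N = ⊥) :
    ∃ S : Subgroup G, S.Normal ∧ IsSimpleGroup S ∧ ¬ Group.IsSolvable S ∧ centralizer (S : Set G) = ⊥ := by
  obtain ⟨S, hS⟩ := Set.Finite.exists_minimal (Set.toFinite {N : Subgroup G | N.Normal ∧ N ≠ ⊥})
    ⟨⊤, inferInstance, top_ne_bot⟩
  haveI := hS.1.1
  have hns : ¬ Group.IsSolvable S := fun hs => hS.1.2 (hrad S hS.1.1 hs)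
  refine ⟨S, hS.1.1, ?_, hns, eq_bot_of_commute hG hns le_rfl⟩
  haveI : Nontrivial S := (Subgroup.nontrivial_iff_ne_bot S).2 hS.1.2
  refine ⟨fun T hT => or_iff_not_imp_left.2 fun hT0 => ?_⟩
  obtain ⟨U, hUT, hU⟩ := Set.Finite.exists_minimal (Set.toFinite {N : Subgroup S | N.Normal ∧ N ≠ ⊥ ∧ N ≤ T})
    ⟨T, hT, hT0, le_rfl⟩ |>.elim fun U hU => (⟨U, hU.1.2.2, hU⟩ : ∃ U, U ≤ T ∧ _)
  have hUn : U.Normal := hU.1.1
  set V : Subgroup G := U.map S.subtype with hV
  have hVS : V ≤ S := Subgroup.map_subtype_le _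
  have hV0 : V ≠ ⊥ := by
    rw [hV, Ne, Subgroup.map_eq_bot_iff_of_injective _ S.subtype_injective]
    exact hU.1.2.1
  -- no solvable normal subgroup of `S`
  have hUns : ¬ Group.IsSolvable U := by
    intro hUs
    -- the join of the conjugates of `U` is solvable and normal
    obtain ⟨W, hW⟩ := Set.Finite.exists_maximal
      (Set.toFinite {N : Subgroup S | N.Normal ∧ Group.IsSolvable N}) ⟨U, hUn, hUs⟩
    haveI := hW.1.1
    haveI := hW.1.2
    have huniq : ∀ N : Subgroup S, N.Normal → Group.IsSolvable N → N ≤ W := by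
      intro N hN hNs
      haveI := hN
      haveI := hNs
      have hsol : Group.IsSolvable ↥(N ⊔ W) := by
        refine solvable_of_ker_le_range (Subgroup.inclusion (le_sup_right : W ≤ N ⊔ W))
          ((QuotientGroup.mk' W).comp (N ⊔ W).subtype).rangeRestrict ?_ (G'' := _) (hG' := inferInstance)
          (hG'' := ?_)
        · intro x hx
          rw [MonoidHom.ker_rangeRestrict, MonoidHom.mem_ker] at hx
          exact ⟨⟨x, (QuotientGroup.eq_one_iff _).1 hx⟩, Subtype.ext rfl⟩
        · rw [MonoidHom.range_comp, Subgroup.range_subtype, Subgroup.map_sup, QuotientGroup.map_mk'_self,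
            sup_bot_eq]
          exact solvable_of_surjective ((QuotientGroup.mk' W).subgroupMap_surjective N)
      exact le_sup_left.trans (hW.eq_of_ge ⟨inferInstance, hsol⟩ le_sup_right).le
    haveI : W.Characteristic := Subgroup.characteristic_iff_map_le.2 fun φ =>
      huniq _ (hW.1.1.map _ φ.surjective) (solvable_of_surjective (φ.toMonoidHom.subgroupMap_surjective W))
    have hW0 : W.map S.subtype = ⊥ := hrad _ inferInstance
      (solvable_of_surjective (S.subtype.subgroupMap_surjective W))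
    rw [Subgroup.map_eq_bot_iff_of_injective _ S.subtype_injective] at hW0
    exact hU.1.2.1 (le_bot_iff.1 ((huniq U hUn hUs).trans hW0.le))
  have hVns : ¬ Group.IsSolvable V := fun hs => hUns
    (solvable_of_surjective (f := (U.equivMapOfInjective _ S.subtype_injective).symm.toMonoidHom)
      (U.equivMapOfInjective _ S.subtype_injective).symm.surjective)
  have hVnorm : ∀ g : G, V.map (MulAut.conj g).toMonoidHom = V := by
    intro g
    set φ : S ≃* S := MulAut.conjNormal g with hφ
    have e : V.map (MulAut.conj g).toMonoidHom = (U.map φ.toMonoidHom).map S.subtype := by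
      rw [hV, Subgroup.map_map, Subgroup.map_map]
      congr 1
    haveI hU' : (U.map φ.toMonoidHom).Normal := hUn.map _ φ.surjective
    by_contra hne
    have hne' : U.map φ.toMonoidHom ≠ U := fun e' => hne (by rw [e, e'])
    have hint : U.map φ.toMonoidHom ⊓ U = ⊥ := by
      by_contra hi
      have h1 := hU.eq_of_le ⟨inferInstance, hi, inf_le_right.trans hUT⟩ inf_le_right
      have h2 : U ≤ U.map φ.toMonoidHom := h1.ge.trans inf_le_left
      have hc : Nat.card (U.map φ.toMonoidHom) = Nat.card U :=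
        Subgroup.card_map_of_injective φ.injective
      exact hne' (Subgroup.eq_of_le_of_card_ge h2 hc.le).symm
    have hcomm : V.map (MulAut.conj g).toMonoidHom ≤ centralizer (V : Set G) := by
      rw [e, hV]
      rintro _ ⟨x, hx, rfl⟩
      rw [mem_centralizer_iff]
      rintro _ ⟨y, hy, rfl⟩
      exact congrArg S.subtype
        (Subgroup.commute_of_normal_of_disjoint U _ hUn hU' (disjoint_iff.2 (inf_comm U _ ▸ hint)) y x hy hx).eq
    have h0 := eq_bot_of_commute hG hVns hcomm
    exact hV0 ((Subgroup.map_eq_bot_iff_of_injective _ (MulAut.conj g).injective).1 h0)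
  have hVn : V.Normal := ⟨fun x hx g => hVnorm g ▸ ⟨x, hx, rfl⟩⟩
  have hVeq : V = S := hS.eq_of_le ⟨hVn, hV0⟩ hVS
  rw [eq_top_iff]
  intro x _
  obtain ⟨y, hy, e⟩ := hVeq.ge x.2
  exact hUT (Subtype.ext e ▸ hy)


/-- With one class of involutions in a normal subgroup, its index is a power of two. -/
theorem exists_index_two_pow (hG : IsCIT G) (S : Subgroup G) [S.Normal] {t : S} (ht : orderOf t = 2)
    (hclass : ∀ s : S, orderOf s = 2 → IsConj t s) : ∃ k : ℕ, S.index = 2 ^ k := by
  have hsurj : Function.Surjective ((QuotientGroup.mk' S).comp (centralizer ({(t : G)} : Set G)).subtype) := by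
    intro q
    obtain ⟨g, rfl⟩ := QuotientGroup.mk'_surjective S q
    obtain ⟨s, hs⟩ := isConj_iff.1 (hclass (MulAut.conjNormal g t) (by rw [MulEquiv.orderOf_eq, ht]))
    have hs' : (s : G) * t * (s : G)⁻¹ = g * t * g⁻¹ := congrArg Subtype.val hs
    refine ⟨⟨(s : G)⁻¹ * g, ?_⟩, ?_⟩
    · rw [mem_centralizer_singleton_iff]
      calc (s : G)⁻¹ * g * t = (s : G)⁻¹ * (g * t * g⁻¹) * g := by group
        _ = t * ((s : G)⁻¹ * g) := by rw [← hs']; group
    · show QuotientGroup.mk' S ((s : G)⁻¹ * g) = _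
      rw [map_mul, QuotientGroup.mk'_apply, (QuotientGroup.eq_one_iff _).2 (S.inv_mem s.2), one_mul]
  haveI : Fact (Nat.Prime 2) := ⟨Nat.prime_two⟩
  exact IsPGroup.iff_card.1 ((hG (t : G) (by rw [Subgroup.orderOf_coe, ht])).of_surjective _ hsurj)

end Cfsg.Agent.GraphCIT
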