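import Cfsg.Agent.EqLemmas
import Cfsg.Agent.Lib.GraphCIT.Pre
import Cfsg.Agent.Lib.GraphCIT.Members
import Cfsg.Agent.Lib.Solvable.ThreePrimes
import Cfsg.Agent.Lib.Suzuki.FieldMap
import Cfsg.Agent.Lib.Linear.GenTools

/-!
Groups with the prime graph of `PSL_2(2^m)` or `Sz(q)`, given the classification of simple CIT groups
(owner: helper96).

* `eq_top_of_inverted`
* `exists_socle`
* `main_psl`, `main_sz`
-/

set_option autoImplicit false

open Cfsg Subgroup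

namespace Cfsg.Agent.GraphCIT

universe u v

open CIT

variable {G : Type u} [Group G] [Finite G]

theorem eq_top_of_inverted (hG : IsCIT G) (S : Subgroup G) [S.Normal] {k : ℕ} (hk : S.index = 2 ^ k)
    {r : ℕ} (hr : r.Prime) (hr4 : r % 4 = 3) (hT : InvertedTorus S r) : S = ⊤ := by
  haveI := Fact.mk hr
  haveI : Fact (Nat.Prime 2) := ⟨Nat.prime_two⟩
  by_contra hne
  obtain ⟨x, w, hx, hw, hi, hc⟩ := hT
  set X : G := (x : G) with hXdef
  set W : G := (w : G) with hWdef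
  have hX : orderOf X = r := by rw [hXdef, Subgroup.orderOf_coe, hx]
  have hW : orderOf W = 2 := by rw [hWdef, Subgroup.orderOf_coe, hw]
  have hXi : W * X * W⁻¹ = X⁻¹ := congrArg Subtype.val hi
  have hrodd : Odd r := Nat.odd_iff.2 (by omega)
  have hX1 : X ≠ 1 := fun e => by rw [e, orderOf_one] at hX; omega
  -- an involution of the quotient
  have hk0 : k ≠ 0 := fun h => hne (Subgroup.index_eq_one.1 (by rw [hk, h, pow_zero]))
  obtain ⟨q, hq⟩ := exists_prime_orderOf_dvd_card' (G := G ⧸ S) 2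
    (by rw [← Subgroup.index_eq_card, hk]; exact dvd_pow_self 2 hk0)
  obtain ⟨g₀, rfl⟩ := QuotientGroup.mk'_surjective S q
  set f := QuotientGroup.mk' S with hf
  -- lift it into the normaliser of `⟨X⟩`
  obtain ⟨n, hnq, hnX⟩ : ∃ n : G, f n = f g₀ ∧ n * X * n⁻¹ ∈ zpowers X := by
    obtain ⟨s, hs⟩ := hc (MulAut.conjNormal g₀ x) (by rw [MulEquiv.orderOf_eq, hx])
    have hs' : zpowers ((s : G) * X * (s : G)⁻¹) = zpowers (g₀ * X * g₀⁻¹) := by
      have := congrArg (Subgroup.map S.subtype) hs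
      rwa [MonoidHom.map_zpowers, MonoidHom.map_zpowers] at this
    refine ⟨(s : G)⁻¹ * g₀, ?_, ?_⟩
    · rw [map_mul, hf, QuotientGroup.mk'_apply, (QuotientGroup.eq_one_iff _).2 (S.inv_mem s.2), one_mul]
    · obtain ⟨j, hj⟩ := (hs'.ge (mem_zpowers (g₀ * X * g₀⁻¹)))
      refine ⟨j, ?_⟩
      simp only at hj ⊢
      rw [conj_zpow] at hj
      calc X ^ j = (s : G)⁻¹ * ((s : G) * X ^ j * (s : G)⁻¹) * s := by group
        _ = (s : G)⁻¹ * g₀ * X * ((s : G)⁻¹ * g₀)⁻¹ := by rw [hj]; group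
  -- the two-part of the lift
  obtain ⟨a, e, he, hn⟩ := Nat.exists_eq_two_pow_mul_odd (orderOf_pos n).ne'
  set g := n ^ e with hg
  have hgX : g * X * g⁻¹ ∈ zpowers X := by
    have key : ∀ i : ℕ, ∀ z ∈ zpowers X, n ^ i * z * (n ^ i)⁻¹ ∈ zpowers X := by
      intro i
      induction i with
      | zero => intro z hz; simpa using hz
      | succ i ih =>
        intro z hz
        obtain ⟨j, rfl⟩ := hz
        have : n * X ^ j * n⁻¹ ∈ zpowers X := by
          rw [← conj_zpow]; exact Subgroup.zpow_mem _ hnX j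
        simp only [pow_succ]
        rw [show n ^ i * n * X ^ j * (n ^ i * n)⁻¹ = n ^ i * (n * X ^ j * n⁻¹) * (n ^ i)⁻¹ by group]
        exact ih _ this
    exact key e X (mem_zpowers X)
  have hg2 : g ^ 2 ^ a = 1 := by rw [hg, ← pow_mul, mul_comm, ← hn, pow_orderOf_eq_one]
  have hfg : f g = f g₀ := by
    obtain ⟨c, hc⟩ := he
    have h2 : f g₀ ^ 2 = 1 := hq ▸ pow_orderOf_eq_one (f g₀)
    rw [hg, map_pow, hnq, hc, pow_succ, pow_mul, h2, one_pow, one_mul]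
  have hg1 : g ≠ 1 := fun e1 => Involution.ne_one hq (by rw [← hfg, e1, map_one])
  have hG2 : IsPGroup 2 (zpowers g) := by
    obtain ⟨b, -, hb⟩ := (Nat.dvd_prime_pow Nat.prime_two).1 (orderOf_dvd_of_pow_eq_one hg2)
    exact IsPGroup.of_card (n := b) (by rw [Nat.card_zpowers, hb])
  obtain ⟨i, hi'⟩ : ∃ i : ℕ, X ^ i = g * X * g⁻¹ :=
    (Submonoid.mem_powers_iff _ _).1 (mem_powers_iff_mem_zpowers.2 hgX)
  have hiter : ∀ j : ℕ, g ^ j * X * (g ^ j)⁻¹ = X ^ i ^ j := by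
    intro j
    induction j with
    | zero => simp
    | succ j ih =>
      rw [pow_succ' g, show g * g ^ j * X * (g * g ^ j)⁻¹ = g * (g ^ j * X * (g ^ j)⁻¹) * g⁻¹ by group,
        ih, ← conj_pow, ← hi', ← pow_mul, pow_succ']
  have hz1 : (i : ZMod r) ^ 2 ^ a = 1 := by
    have h := hiter (2 ^ a)
    rw [hg2, one_mul, inv_one, mul_one] at h
    have h' : X ^ 1 = X ^ i ^ 2 ^ a := by rw [pow_one]; exact h
    rw [pow_eq_pow_iff_modEq, hX, ← ZMod.natCast_eq_natCast_iff, Nat.cast_one, Nat.cast_pow] at h'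
    exact h'.symm
  have hi0 : (i : ZMod r) ≠ 0 := fun h => by
    rw [h, zero_pow (pow_ne_zero _ two_ne_zero)] at hz1
    exact zero_ne_one hz1
  have hi2 : (i : ZMod r) ^ 2 = 1 := by
    obtain ⟨b, -, hb⟩ := (Nat.dvd_prime_pow Nat.prime_two).1 (orderOf_dvd_of_pow_eq_one hz1)
    have hd := ZMod.orderOf_dvd_card_sub_one hi0
    refine orderOf_dvd_iff_pow_eq_one.1 (hb ▸ ?_)
    rcases b with _ | _ | b
    · norm_num
    · norm_num
    · exfalso
      rw [hb, pow_succ, pow_succ] at hd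
      have : 2 * 2 ∣ r - 1 := (dvd_mul_left _ (2 ^ b)).trans (by rwa [← mul_assoc])
      omega
  have hpm : ∀ c : ℤ, (i : ZMod r) = (c : ZMod r) → g * X * g⁻¹ = X ^ c := by
    intro c hc
    rw [← hi', ← zpow_natCast X i, zpow_eq_zpow_iff_modEq, hX, ← ZMod.intCast_eq_intCast_iff, ← hc,
      Int.cast_natCast]
  rcases sq_eq_one_iff.1 hi2 with h | h
  · have h1 := hpm 1 (by rw [h, Int.cast_one])
    rw [zpow_one] at h1
    exact hg1 (hG.fpf' hG2 (mem_zpowers g) hX1 (hX ▸ hrodd) (mul_inv_eq_iff_eq_mul.1 h1).symm)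
  · have h1 := hpm (-1) (by rw [h, Int.cast_neg, Int.cast_one])
    rw [zpow_neg_one] at h1
    -- `g * W` centralises `X`
    have hgw : X * (g * W) = g * W * X := by
      calc X * (g * W) = (g * X * g⁻¹)⁻¹ * (g * W) := by rw [h1, inv_inv]
        _ = g * (X⁻¹ * W) := by group
        _ = g * ((W * X * W⁻¹) * W) := by rw [hXi]
        _ = g * W * X := by group
    have hodd : Odd (orderOf (g * W)) := by
      rw [← Nat.not_even_iff_odd, even_iff_two_dvd]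
      intro h2
      exact hX1 (hG.eq_one_of_commute (orderOf_pow_orderOf_div (orderOf_pos (g * W)).ne' h2)
        (hX ▸ hrodd) ((show Commute X (g * W) from hgw).pow_right _).eq)
    have him : f (g * W) = f g₀ := by
      rw [map_mul, hfg, hf, QuotientGroup.mk'_apply _ W, (QuotientGroup.eq_one_iff _).2 w.2, mul_one]
    have h2 := orderOf_map_dvd f (g * W)
    rw [him, hq] at h2
    exact Nat.not_even_iff_odd.2 hodd (even_iff_two_dvd.2 h2)

/-- The group modulo its 2-core has a simple CIT normal subgroup of 2-power index. -/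
theorem exists_socle (hCIT : EPPO.CITClass.{u}) (hG : IsCIT G) (hns : ¬ Group.IsSolvable G) :
    ∃ S : Subgroup (G ⧸ pCore 2 G), ∃ _ : S.Normal, IsSimpleGroup S ∧ (∃ a b : S, a * b ≠ b * a) ∧
      IsCIT S ∧ (∃ k : ℕ, S.index = 2 ^ k) ∧
      ∀ r : ℕ, r.Prime → r ≠ 2 → (r ∣ Nat.card S ↔ r ∣ Nat.card G) := by
  haveI : Fact (Nat.Prime 2) := ⟨Nat.prime_two⟩
  have hO : IsPGroup 2 (pCore 2 G) := Cores.isPGroup_pCore 2 G
  have hQ : IsCIT (G ⧸ pCore 2 G) := hG.quotient _ hO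
  have hQns : ¬ Group.IsSolvable (G ⧸ pCore 2 G) := fun h => hns (by
    haveI := h
    haveI := hO.isNilpotent
    exact solvable_of_ker_le_range (pCore 2 G).subtype (QuotientGroup.mk' (pCore 2 G))
      (by rw [QuotientGroup.ker_mk', Subgroup.range_subtype]))
  haveI : Nontrivial (G ⧸ pCore 2 G) := not_subsingleton_iff_nontrivial.1 fun h => hQns inferInstance
  obtain ⟨S, hS, hsimp, hSns, -⟩ := exists_simple_normal hQ
    (eq_bot_of_solvable_normal hQ hQns (Cores.pCore_quotient_self 2 G))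
  haveI := hS
  haveI := hsimp
  have hnc : ∃ a b : S, a * b ≠ b * a := by
    by_contra h
    push Not at h
    exact hSns (IsSimpleGroup.comm_iff_isSolvable.1 h)
  obtain ⟨⟨⟨t, ht⟩, hone⟩, -⟩ := member_cases hCIT hnc (hQ.subgroup S)
  obtain ⟨k, hk⟩ := exists_index_two_pow hQ S ht (fun s hs => hone t s ht hs)
  refine ⟨S, hS, hsimp, hnc, hQ.subgroup S, ⟨k, hk⟩, fun r hr hr2 => ?_⟩
  obtain ⟨j, hj⟩ := IsPGroup.iff_card.1 hO
  have h1 : Nat.card G = Nat.card S * (2 ^ k * 2 ^ j) := by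
    rw [← mul_assoc, ← hk, ← hj, Subgroup.card_mul_index, ← Subgroup.card_eq_card_quotient_mul_card_subgroup]
  rw [h1, ← pow_add, hr.dvd_mul]
  exact ⟨Or.inl, fun h => h.resolve_right fun h =>
    hr2 ((Nat.prime_dvd_prime_iff_eq hr Nat.prime_two).1 (hr.dvd_of_dvd_pow h))⟩

/-- Facts read from the prime graph. -/
theorem graph_facts {T : Type*} [Group T] [Finite T]
    (h1 : ∀ r : ℕ, r.Prime → (r ∣ Nat.card T ↔ r ∣ Nat.card G))
    (h2 : ∀ r s : ℕ, r.Prime → s.Prime → r ≠ s → ((∃ x : T, orderOf x = r * s) ↔ (∃ y : G, orderOf y = r * s)))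
    (hT : ∀ r : ℕ, r.Prime → r ≠ 2 → ∀ x : T, orderOf x ≠ 2 * r) {r s : ℕ} (hr : r.Prime) (hs : s.Prime)
    (hr2 : r ≠ 2) (hs2 : s ≠ 2) (hrs : r ≠ s) (h2T : 2 ∣ Nat.card T) (hrd : r ∣ Nat.card T)
    (hsd : s ∣ Nat.card T) (hno : ∀ x : T, orderOf x ≠ r * s) :
    IsCIT G ∧ ¬ Group.IsSolvable G := by
  refine ⟨fun t ht => ?_, fun hsol => ?_⟩
  · by_contra hcon
    obtain ⟨y, hy, p, hp, hp2, hyp⟩ := exists_odd_prime_of_not_two hcon
    have hc : Commute t y := (mem_centralizer_singleton_iff.1 hy).symm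
    obtain ⟨x, hx⟩ := (h2 2 p Nat.prime_two hp hp2.symm).2 ⟨t * y, by
      rw [hc.orderOf_mul_eq_mul_orderOf_of_coprime (by
        rw [ht, hyp]; exact (Nat.coprime_primes Nat.prime_two hp).2 hp2.symm), ht, hyp]⟩
    exact hT p hp hp2 x hx
  · haveI := hsol
    obtain ⟨g, hg | hg | hg⟩ := Solvable.exists_orderOf_eq_mul_of_three_primes (G := G) Nat.prime_two hr hs
      hr2.symm hs2.symm hrs ((h1 2 Nat.prime_two).1 h2T) ((h1 r hr).1 hrd) ((h1 s hs).1 hsd)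
    · obtain ⟨x, hx⟩ := (h2 2 r Nat.prime_two hr hr2.symm).2 ⟨g, hg⟩
      exact hT r hr hr2 x hx
    · obtain ⟨x, hx⟩ := (h2 2 s Nat.prime_two hs hs2.symm).2 ⟨g, hg⟩
      exact hT s hs hs2 x hx
    · obtain ⟨x, hx⟩ := (h2 r s hr hs hrs).2 ⟨g, hg⟩
      exact hno x hx

theorem exists_prime_three_mod_four_pred {n : ℕ} (hn : 2 ≤ n) :
    ∃ r : ℕ, r.Prime ∧ r ∣ 2 ^ n - 1 ∧ r % 4 = 3 := by
  refine exists_prime_three_mod_four _ ?_
  obtain ⟨j, rfl⟩ : ∃ j, n = j + 2 := ⟨n - 2, by omega⟩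
  have := Nat.one_le_two_pow (n := j)
  rw [pow_add]
  omega

theorem main_psl (hCIT : EPPO.CITClass.{u}) {F : Type v} [Field F] [Fintype F] {m : ℕ} (hm : 4 ≤ m)
    (hF : Fintype.card F = 2 ^ m)
    (h1 : ∀ r : ℕ, r.Prime → (r ∣ Nat.card (PSL2.PSL2 F) ↔ r ∣ Nat.card G))
    (h2 : ∀ r s : ℕ, r.Prime → s.Prime → r ≠ s →
      ((∃ x : PSL2.PSL2 F, orderOf x = r * s) ↔ (∃ y : G, orderOf y = r * s))) :
    Nonempty (G ⧸ pCore 2 G ≃* PSL2.PSL2 F) := by
  obtain ⟨r, hr, hrd, hr4⟩ := exists_prime_three_mod_four_pred (n := m) (by omega)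
  have hr2 : r ≠ 2 := by omega
  obtain ⟨s, hs, hs2, hsd, hso⟩ := exists_prime_ordTwo (n := 2 * m) (by omega) (by omega)
  have hsn : ¬ s ∣ 2 ^ m - 1 := fun h => by
    have := Nat.le_of_dvd (by omega) (hso ▸ ordTwo_dvd_iff.2 h)
    omega
  have hdvd : ∀ p : ℕ, p.Prime → p ≠ 2 → (p ∣ Nat.card (PSL2.PSL2 F) ↔ ordTwo p ∣ 2 * m) :=
    fun p hp hp2 => dvd_card_pslEven (by omega) hF hp hp2
  have hrm : ordTwo r ∣ 2 * m := (ordTwo_dvd_iff.2 hrd).trans (dvd_mul_left m 2)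
  obtain ⟨hG, hns⟩ := graph_facts (G := G) h1 h2
    (fun p hp hp2 x => no_two_mul_pslEven (by omega) hF hp hp2 x) hr hs hr2 hs2
    (fun e => hsn (e ▸ hrd)) (by rw [card_pslEven (by omega) hF]; exact (dvd_pow_self 2 (by omega)).mul_right _)
    ((hdvd r hr hr2).2 hrm) ((hdvd s hs hs2).2 (hso ▸ dvd_rfl)) (no_mul_pslEven (by omega) hF hr hs hr2 hrd hsn)
  obtain ⟨S, hS, hsimp, hnc, hSC, ⟨k, hk⟩, hpr⟩ := exists_socle hCIT hG hns
  haveI := hS
  haveI := hsimp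
  obtain ⟨K, iK, iF, hK, ⟨e⟩⟩ := member_psl_target hCIT hnc hSC hm fun p hp hp2 => by
    rw [hpr p hp hp2, ← h1 p hp]; exact hdvd p hp hp2
  have hT : InvertedTorus S r := (invertedTorus_pslEven (by omega) hK hr hr2
    ((dvd_card_pslEven (by omega) hK hr hr2).2 hrm)).map e.symm
  have htop := eq_top_of_inverted (hG.quotient _ (Cores.isPGroup_pCore 2 G)) S hk hr hr4 hT
  subst htop
  exact ⟨(Subgroup.topEquiv.symm.trans e).trans
    (Linear.pslMapEquiv (FiniteField.ringEquivOfCardEq (hK.trans hF.symm)))⟩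

theorem main_sz (hCIT : EPPO.CITClass.{u}) {F : Type v} [Field F] [Fintype F] {m : ℕ} (hm : 1 ≤ m)
    (hF : Fintype.card F = 2 ^ (2 * m + 1))
    (h1 : ∀ r : ℕ, r.Prime → (r ∣ Nat.card ↥(Lie.Sz F (2 ^ (m + 1))) ↔ r ∣ Nat.card G))
    (h2 : ∀ r s : ℕ, r.Prime → s.Prime → r ≠ s →
      ((∃ x : ↥(Lie.Sz F (2 ^ (m + 1))), orderOf x = r * s) ↔ (∃ y : G, orderOf y = r * s))) :
    Nonempty (G ⧸ pCore 2 G ≃* ↥(Lie.Sz F (2 ^ (m + 1)))) := by
  set e₀ := Suzuki.lieEquiv hm hF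
  haveI := finite_sz hm hF
  have h1' : ∀ r : ℕ, r.Prime → (r ∣ Nat.card (Sz F m) ↔ r ∣ Nat.card G) := fun r hr => by
    rw [Nat.card_congr e₀.toEquiv]; exact h1 r hr
  have h2' : ∀ r s : ℕ, r.Prime → s.Prime → r ≠ s →
      ((∃ x : Sz F m, orderOf x = r * s) ↔ (∃ y : G, orderOf y = r * s)) := fun r s hr hs hrs => by
    rw [← h2 r s hr hs hrs]
    exact ⟨fun ⟨x, hx⟩ => ⟨e₀ x, by rw [MulEquiv.orderOf_eq, hx]⟩,
      fun ⟨x, hx⟩ => ⟨e₀.symm x, by rw [MulEquiv.orderOf_eq, hx]⟩⟩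
  obtain ⟨r, hr, hrd, hr4⟩ := exists_prime_three_mod_four_pred (n := 2 * m + 1) (by omega)
  have hr2 : r ≠ 2 := by omega
  obtain ⟨s, hs, hsd⟩ := Nat.exists_prime_and_dvd (n := (2 ^ (2 * m + 1)) ^ 2 + 1) (by
    have := Nat.one_le_two_pow (n := 2 * m + 1); nlinarith)
  have hs2 : s ≠ 2 := fun e => by
    rw [← pow_mul] at hsd
    exact not_two_dvd_two_pow_add_one (by omega) (e ▸ hsd)
  have hrs : r ≠ s := fun e => hr.ne_one
    (Nat.eq_one_of_dvd_coprimes (Suzuki.coprime_pred (2 ^ (2 * m + 1)) Suzuki.two_dvd_q) hrd (e ▸ hsd))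
  obtain ⟨hG, hns⟩ := graph_facts (G := G) h1' h2' (fun p hp hp2 x => no_two_mul_sz hm hF hp hp2 x)
    hr hs hr2 hs2 hrs
    (by rw [Suzuki.card_sz hm hF]
        exact (((dvd_pow_self 2 (by omega : 2 * m + 1 ≠ 0)).trans (dvd_pow_self _ two_ne_zero)).mul_right _).mul_right _)
    ((card_sz_dvd_iff hm hF hr hr2).2 (Or.inl hrd)) ((card_sz_dvd_iff hm hF hs hs2).2 (Or.inr hsd))
    (no_mul_sz hm hF hr hs hrd hsd)
  obtain ⟨S, hS, hsimp, hnc, hSC, ⟨k, hk⟩, hpr⟩ := exists_socle hCIT hG hns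
  haveI := hS
  haveI := hsimp
  obtain ⟨K, iK, iF, hK, ⟨e⟩⟩ := member_sz_target hCIT hnc hSC hm fun p hp hp2 => by
    rw [hpr p hp hp2, ← h1' p hp]; exact card_sz_dvd_iff hm hF hp hp2
  have hT : InvertedTorus S r := (invertedTorus_sz hm hK hr hr2 hrd).map e.symm
  have htop := eq_top_of_inverted (hG.quotient _ (Cores.isPGroup_pCore 2 G)) S hk hr hr4 hT
  subst htop
  let θ : K ≃+* F := FiniteField.ringEquivOfCardEq (hK.trans hF.symm)
  haveI := finite_sz hm hK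
  let f := Suzuki.szMap hF hm hK θ.toRingHom (fun x => map_pow θ x _)
  have hf : Function.Bijective f := (Nat.bijective_iff_injective_and_card f).2
    ⟨Suzuki.szMap_injective hF hm hK _ _, by rw [Suzuki.card_sz hm hK, Suzuki.card_sz hm hF]⟩
  exact ⟨((Subgroup.topEquiv.symm.trans e).trans (MulEquiv.ofBijective f hf)).trans e₀⟩

end Cfsg.Agent.GraphCIT
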